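import Groth.Agent.PicLib.FlatSections
import Groth.Agent.Coherent.CohBC.HomSheaf
import Groth.Agent.CurveRR24.BCField
import Groth.Agent.ThetaLib.Scalar
import Groth.Agent.VB5.Endo

/-!
# Base change of morphisms of bundles along a field extension
-/

set_option autoImplicit false
set_option linter.style.haveILetI false
set_option backward.isDefEq.respectTransparency.types false
set_option backward.isDefEq.respectTransparency false

universe u

open CategoryTheory CategoryTheory.Limits AlgebraicGeometry Opposite TopologicalSpace TensorProduct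
open Groth.Agent.Coherent Groth.Agent.PicLib Groth.Agent.CurveRR24

namespace Groth.Agent.GenOneBC5

variable {k K : Type u} [Field k] [Field K] [Algebra k K] {X X' : Scheme.{u}}
  [X.Over (Spec (CommRingCat.of k))] [X'.Over (Spec (CommRingCat.of K))]
  [CompactSpace X] [QuasiSeparatedSpace X] {g : X' ⟶ X}
  (h : IsPullback g (X' ↘ Spec (CommRingCat.of K)) (X ↘ Spec (CommRingCat.of k))
    (Spec.map (CommRingCat.ofHom (algebraMap k K))))

include h in
theorem map_smul_bc {A B : X.Modules} (c : k) (f : A ⟶ B) :
    (Scheme.Modules.pullback g).map (c • f) = algebraMap k K c • (Scheme.Modules.pullback g).map f := by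
  have e1 : c • f = (c • 𝟙 A) ≫ f := by rw [Linear.smul_comp, Category.id_comp]
  rw [e1, Functor.map_comp, ← VB5.smulMod_eq_smul, ThetaLib.pullback_map_smulMod,
    show g.appTop (Coh.toGlobal (X ↘ Spec (CommRingCat.of k)) c) =
      Coh.toGlobal (X' ↘ Spec (CommRingCat.of K)) (algebraMap k K c) from appTop_toGlobal g h c,
    VB5.smulMod_eq_smul, Linear.smul_comp, Category.id_comp]

theorem homOfSec_smul_base {Z : Scheme.{u}} [Z.Over (Spec (CommRingCat.of K))] {F G : Z.Modules} (b : K)
    (s : Γ(internalHom F G, ⊤)) :
    CohBC.homOfSec ((show Γ(Z, ⊤) from Coh.toGlobal (Z ↘ Spec (CommRingCat.of K)) b) • s) = b • CohBC.homOfSec s :=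
  Scheme.Modules.hom_ext _ _ fun _ => ConcreteCategory.hom_ext _ _ fun a =>
    (KLin.smul_app_apply b (CohBC.homOfSec s) _ a).symm

theorem bijective_homOfSec {Z : Scheme.{u}} (F G : Z.Modules) :
    Function.Bijective fun s : Γ(internalHom F G, ⊤) => CohBC.homOfSec s := by
  refine ⟨fun s t hst => ?_, fun φ => ⟨_, CohBC.homOfSec_secOfHom φ⟩⟩
  exact locHom_ext (U := (⊤ : Z.Opens)) fun W hW a => congrArg (fun f : F ⟶ G => f.app W a) hst

variable (A B : X.Modules)

/-- `K ⊗ Hom(A, B) → Hom(g^*A, g^*B)`. -/
noncomputable def homBC :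
    K ⊗[k] (A ⟶ B) →ₗ[K] ((Scheme.Modules.pullback g).obj A ⟶ (Scheme.Modules.pullback g).obj B) :=
  let F : K ⊗[k] (A ⟶ B) →+ ((Scheme.Modules.pullback g).obj A ⟶ (Scheme.Modules.pullback g).obj B) :=
    TensorProduct.liftAddHom
      (AddMonoidHom.mk' (fun b => AddMonoidHom.mk' (fun f => b • (Scheme.Modules.pullback g).map f)
          fun f f' => (congrArg (b • ·) (Scheme.Modules.pullback g).map_add).trans (smul_add b _ _))
        fun b b' => AddMonoidHom.ext fun f => add_smul b b' _)
      fun c b f => by
        show (c • b) • (Scheme.Modules.pullback g).map f = b • (Scheme.Modules.pullback g).map (c • f)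
        rw [map_smul_bc h c f, Algebra.smul_def, mul_comm, mul_smul]
  { toFun := F
    map_add' := map_add F
    map_smul' := fun b z => by
      induction z with
      | zero => rw [smul_zero, map_zero, RingHom.id_apply, smul_zero]
      | add u v hu hv =>
        rw [RingHom.id_apply] at hu hv ⊢
        rw [smul_add, map_add, hu, hv, map_add, smul_add]
      | tmul b' f => exact mul_smul b b' _ }

@[simp]
theorem homBC_tmul (b : K) (f : A ⟶ B) :
    homBC h A B (b ⊗ₜ f) = b • (Scheme.Modules.pullback g).map f := rfl

/-- Maps between pulled back bundles come from the maps between the bundles. -/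
theorem bijective_homBC (hA : FlatMod.IsFinLocFree A) (hB : FlatMod.IsFinLocFree B) :
    Function.Bijective (homBC h A B) := by
  let M := internalHom A B
  haveI : Coh.IsQCoh M := (CohBC.isCoh_of_isFinLocFree (CohBC.isFinLocFree_internalHom hA hB)).1
  haveI : IsAffineHom g :=
    MorphismProperty.IsStableUnderBaseChange.of_isPullback (P := @IsAffineHom) h.flip inferInstance
  obtain ⟨E, hE⟩ := exists_baseChange_sections g (baseHom k X) (baseHom K X') M (appTop_toGlobal g h)
    (fun U hU => isBCPushout_of_isPullback g h hU)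
  let j : (A ⟶ B) →ₗ[k] HA (baseHom k X) M ⊤ 0 :=
    { toFun := fun f => (secTop (baseHom k X) M).symm (CohBC.secOfHom f)
      map_add' := fun f f' => Eq.trans (congrArg (secTop (baseHom k X) M).symm (show CohBC.secOfHom (f + f') = CohBC.secOfHom f + CohBC.secOfHom f' from rfl)) ((secTop (baseHom k X) M).symm.map_add _ _)
      map_smul' := fun c f => (secTop (baseHom k X) M).injective (by
        rw [RingHom.id_apply, secTop_smul, AddEquiv.apply_symm_apply, AddEquiv.apply_symm_apply]
        refine (bijective_homOfSec A B).1 ?_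
        show CohBC.homOfSec _ = CohBC.homOfSec ((show Γ(X, ⊤) from Coh.toGlobal (X ↘ Spec (CommRingCat.of k)) c) • _)
        rw [CohBC.homOfSec_secOfHom, homOfSec_smul_base, CohBC.homOfSec_secOfHom]) }
  have hj : Function.Bijective j := by
    refine (secTop (baseHom k X) M).symm.bijective.comp ⟨fun f f' e => ?_, fun s => ⟨CohBC.homOfSec s, ?_⟩⟩
    · exact (CohBC.homOfSec_secOfHom f).symm.trans ((congrArg _ e).trans (CohBC.homOfSec_secOfHom f'))
    · exact (bijective_homOfSec A B).1 (CohBC.homOfSec_secOfHom _)
  let T : K ⊗[k] (A ⟶ B) → Γ((Scheme.Modules.pullback g).obj M, ⊤) :=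
    fun z => E (((LinearEquiv.ofBijective j hj).baseChange k K _ _) z)
  have hT : Function.Bijective T := E.bijective.comp (LinearEquiv.baseChange k K _ _ _).bijective
  haveI := CohBC.isIso_pullHom A B g hA hB
  let R : Γ((Scheme.Modules.pullback g).obj M, ⊤) → ((Scheme.Modules.pullback g).obj A ⟶ (Scheme.Modules.pullback g).obj B) :=
    fun t => CohBC.homOfSec ((CohBC.pullHom A B g).app ⊤ t)
  have hR : Function.Bijective R :=
    (bijective_homOfSec _ _).comp (ConcreteCategory.bijective_of_isIso ((CohBC.pullHom A B g).app ⊤))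
  have hR0 : ∀ x y, R (x + y) = R x + R y := fun x y =>
    (congrArg CohBC.homOfSec (map_add ((CohBC.pullHom A B g).app ⊤).hom x y)).trans rfl
  suffices key : ∀ z, homBC h A B z = R (T z) by
    rw [show (homBC h A B : _ → _) = R ∘ T from funext key]
    exact hR.comp hT
  intro z
  induction z using TensorProduct.induction_on with
  | zero =>
    rw [map_zero]
    refine (add_left_cancel (a := R (T 0)) ?_).symm
    rw [add_zero, ← hR0]
    simp [T]
  | add x y hx hy =>
    rw [map_add, hx, hy, ← hR0]
    refine congrArg R ?_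
    simp [T]
  | tmul b f =>
    rw [homBC_tmul]
    show _ = R (E (b ⊗ₜ j f))
    rw [hE, CohBC.pullback_map_homOfSec A B g (CohBC.secOfHom f) |>.symm.trans (congrArg _ (CohBC.homOfSec_secOfHom f)) |>.symm]
    show _ = CohBC.homOfSec ((CohBC.pullHom A B g).app ⊤ (_ • _))
    rw [show secTop (baseHom k X) M (j f) = CohBC.secOfHom f from (secTop (baseHom k X) M).apply_symm_apply _,
      Scheme.Modules.Hom.app_smul]
    exact (homOfSec_smul_base b _).symm

end Groth.Agent.GenOneBC5
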