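import Groth.Agent.GenOneBC5.Split
import Groth.Agent.DimLib.BaseChange
import Mathlib.AlgebraicGeometry.Geometrically.Integral

/-!
# Bundles of prime rank on a genus one curve, indecomposable but not geometrically so
-/

set_option autoImplicit false
set_option linter.style.haveILetI false
set_option linter.unusedSectionVars false
set_option backward.isDefEq.respectTransparency.types false
set_option maxHeartbeats 1000000

universe u

open CategoryTheory CategoryTheory.Limits AlgebraicGeometry Opposite TopologicalSpace TensorProduct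
open Groth.Agent.Coherent Groth.Agent.PicLib Groth.Agent.CurveRR24

namespace Groth.Agent.GenOneBC5

section Curve

variable (K : Type u) [Field K] {Z : Scheme.{u}} [Z.Over (Spec (CommRingCat.of K))] [IsIntegral Z]
  [IsLocallyNoetherian Z] [IsProper (Z ↘ Spec (CommRingCat.of K))] [Smooth (Z ↘ Spec (CommRingCat.of K))]
  [GeometricallyIntegral (Z ↘ Spec (CommRingCat.of K))] (hdim : topologicalKrullDim Z = 1)
include hdim

theorem hom_eq_zero_of_le {A B : Z.Modules} (hA : PicF.IsInvertible A) (hB : PicF.IsInvertible B)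
    (hle : VB5.gdeg K B ≤ VB5.gdeg K A) (hne : ¬ Nonempty (A ≅ B)) (f : A ⟶ B) : f = 0 := by
  by_contra hf
  obtain ⟨h1, -, h3⟩ := VB5.line_map K hdim (VB5.isIntegrallyClosed' K hdim) hA hB f hf
  haveI := h3 (le_antisymm h1 hle)
  exact hne ⟨asIso f⟩

/-- One map up to scalars to a line of one degree more. -/
theorem finrank_hom_succ (hg : Curv2.genus K Z = 1) {A B : Z.Modules} (hA : PicF.IsInvertible A)
    (hB : PicF.IsInvertible B) (hd : VB5.gdeg K B = VB5.gdeg K A + 1) : Module.finrank K (A ⟶ B) = 1 := by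
  obtain ⟨M, hM, ⟨e⟩⟩ := CurveRR24.exists_inverse K hB
  obtain ⟨-, h⟩ := VB5.finrank_hom_to_line K hdim hg (PicLib.isFinLocFreeOfRank_one hA) hB hM e
  have hAM : PicF.IsInvertible (CohB1.tensorMod A M) :=
    VB5.invertible_of_rank_one (Clifford24.isFinLocFreeOfRank_tensorMod (PicLib.isFinLocFreeOfRank_one hA) hM)
  have h0 : Module.finrank K (Coh.HH Z (CohB1.tensorMod A M) 0) = 0 := by
    rw [← (SerreDual.homUnitHH K _).finrank_eq]
    haveI : Subsingleton (Coh.structureModule Z ⟶ CohB1.tensorMod A M) := subsingleton_of_forall_eq 0 fun f => by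
      by_contra hf
      have h1 := (VB5.line_map K hdim (VB5.isIntegrallyClosed' K hdim) AmpleLib.isInvertible_structureModule hAM f hf).1
      rw [VB5.gdeg_structure K hdim, VB5.gdeg_tensor_line K hdim hA hM, VB5.gdeg_inverse K hdim hB hM e, hd] at h1
      omega
    exact Module.finrank_zero_of_subsingleton
  rw [h0, hd] at h
  omega

end Curve

variable {k : Type u} [Field k] {X : Scheme.{u}} [X.Over (Spec (CommRingCat.of k))]
  [IsProper (X ↘ Spec (CommRingCat.of k))] [Smooth (X ↘ Spec (CommRingCat.of k))]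
  [GeometricallyIntegral (X ↘ Spec (CommRingCat.of k))]

/-- The situation of the statements. -/
theorem main [Finite k] (hdim : topologicalKrullDim X = 1) (hg : Curv2.genus k X = 1)
    (O : Spec (CommRingCat.of k) ⟶ X) (hO : O ≫ (X ↘ Spec (CommRingCat.of k)) = 𝟙 _) {r : ℕ} (hr : r.Prime)
    {E : X.Modules} (hE : FlatMod.IsFinLocFreeOfRank r E)
    (hind : ¬ IsZero E ∧ ∀ E₁ E₂ : X.Modules, Nonempty (E ≅ E₁ ⊞ E₂) → IsZero E₁ ∨ IsZero E₂)
    (hng : ∃ (K₀ : Type u) (_ : Field K₀) (_ : Algebra k K₀) (E₁ E₂ : (Curv2.bc k X K₀).Modules),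
      ¬ IsZero E₁ ∧ ¬ IsZero E₂ ∧ Nonempty ((Scheme.Modules.pullback (Curv2.bcFst k X K₀)).obj E ≅ E₁ ⊞ E₂))
    (K : Type u) [Field K] [Algebra k K] (hK : Module.finrank k K = r) :
    (∃ (F : Type u) (_ : Field F) (_ : Algebra k F), Module.finrank k F = r ∧ Nonempty (End E ≃ₐ[k] F)) ∧
    ∃ M : Fin r → (Curv2.bc k X K).Modules, (∀ a, PicF.IsInvertible (M a)) ∧
      Nonempty ((Scheme.Modules.pullback (Curv2.bcFst k X K)).obj E ≅ ∐ M) ∧
      (∀ a b, a ≠ b → ¬ Nonempty (M a ≅ M b)) ∧
      (∀ (a : Fin r) (L : X.Modules), PicF.IsInvertible L →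
        ¬ Nonempty (M a ≅ (Scheme.Modules.pullback (Curv2.bcFst k X K)).obj L)) ∧
      ∀ a b, VB5.gdeg K (M a) = VB5.gdeg K (M b) := by
  classical
  haveI : IsIntegral X := GeometricallyIntegral.isIntegral_of_subsingleton (X ↘ Spec (CommRingCat.of k))
  haveI := CurveRR24.isLocallyNoetherian_of_proper k (X := X)
  haveI := EulerLib.isNoetherian_of_proper k (X := X)
  haveI : QuasiSeparatedSpace X := inferInstance
  haveI : Module.Finite k K := Module.finite_of_finrank_pos (hK ▸ hr.pos)
  haveI : IsProper (Curv2.bc k X K ↘ Spec (CommRingCat.of K)) := inferInstanceAs (IsProper (Curv2.bcSnd k X K))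
  haveI : Smooth (Curv2.bc k X K ↘ Spec (CommRingCat.of K)) := inferInstanceAs (Smooth (Curv2.bcSnd k X K))
  haveI : GeometricallyIntegral (Curv2.bc k X K ↘ Spec (CommRingCat.of K)) :=
    inferInstanceAs (GeometricallyIntegral (Curv2.bcSnd k X K))
  haveI := CurveRR24.isLocallyNoetherian_of_proper K (X := Curv2.bc k X K)
  haveI : Limits.HasFiniteBiproducts (Curv2.bc k X K).Modules := Limits.HasFiniteBiproducts.of_hasFiniteProducts
  have hdK : topologicalKrullDim (Curv2.bc k X K) = 1 :=
    (DimLib.topologicalKrullDim_bc (X ↘ Spec (CommRingCat.of k)) K).trans hdim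
  have hgK : Curv2.genus K (Curv2.bc k X K) = 1 := (CurveRR24.genus_bc (isPullback_bc K)).trans hg
  have hEf := isFinLocFree_of_rank hE
  obtain ⟨F, _, _, _, ρ, hρ, hu, ⟨N, hN⟩, hdvd⟩ := exists_residue_bundle hE hind.1 hind.2 O hO
  have hF : Module.finrank k F = r := by
    refine (hr.eq_one_or_self_of_dvd _ hdvd).resolve_left fun h1 => ?_
    obtain ⟨K₀, _, _, E₁, E₂, h₁, h₂, ⟨e⟩⟩ := hng
    exact not_split_of_finrank_one K₀ ρ hEf hN h1 h₁ h₂ e
  obtain ⟨M, i, p, ψ, hmono, hip, hne, hsum, hψ, hnil, hψρ⟩ := exists_parts K ρ hρ hEf hN hK hF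
  let g := Curv2.bcFst k X K
  let P := (Scheme.Modules.pullback g).obj E
  have hP : FlatMod.IsFinLocFreeOfRank r P := VarietyLib.isFinLocFreeOfRank_pullback g hE
  have hnz : ∀ a, ¬ IsZero (M a) := fun a hz => by
    have := congr_fun (hψ a) a
    rw [hz.eq_of_tgt (p a) 0, zero_comp] at this
    simpa using this
  have hcoh : ∀ a, Coh.IsCoh (M a) := fun a => by
    have hc := Coherent.isCoh_kernel (𝟙 P - p a ≫ i a) (SplitP1.isCoh_of_rank hP) (SplitP1.isCoh_of_rank hP).1
    haveI := hmono a
    refine Coherent.isCoh_of_iso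
      { hom := kernel.ι (𝟙 P - p a ≫ i a) ≫ p a
        inv := kernel.lift _ (i a) (by rw [Preadditive.comp_sub, Category.comp_id, ← Category.assoc, hip, Category.id_comp, sub_self])
        hom_inv_id := by
          rw [← cancel_mono (kernel.ι (𝟙 P - p a ≫ i a)), Category.assoc, Category.assoc, kernel.lift_ι, Category.id_comp]
          have h := kernel.condition (𝟙 P - p a ≫ i a)
          rw [Preadditive.comp_sub, Category.comp_id, sub_eq_zero] at h
          exact h.symm
        inv_hom_id := by rw [kernel.lift_ι_assoc, hip] } hc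
  obtain ⟨φ, -, -⟩ := exists_biproduct_iso i p hip hne hsum
  have hbund : ∀ a, FlatMod.IsFinLocFreeOfRank (VB5.grk (M a)) (M a) := fun a =>
    haveI := hmono a
    (VB5.sub_bundle hdK.le (VB5.isIntegrallyClosed' K hdK) hP (i a) (hcoh a)).2
  have hpos : ∀ a, 1 ≤ VB5.grk (M a) := fun a => by
    by_contra h
    exact hnz a (VB5.isZero_of_rank_zero (hbund a) (by omega))
  have hrk : ∀ a, VB5.grk (M a) = 1 := by
    let St := DerSch.stalkFunctor (Curv2.bc k X K) (genericPoint _)
    let Fη := (Curv2.bc k X K).functionField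
    let eη : St.obj P ≅ ModuleCat.of _ (∀ a, (St.obj (M a) : Type u)) :=
      St.mapIso φ ≪≫ St.mapBiproduct M ≪≫ ModuleCat.biproductIsoPi _
    have h1 : VB5.grk P = ∑ a, VB5.grk (M a) := by
      haveI : ∀ a, Module.Finite Fη ((M a).presheaf.stalk (genericPoint (Curv2.bc k X K))) := fun a =>
        VB5.finite_generic (hcoh a)
      exact (LinearEquiv.finrank_eq (R := Fη) eη.toLinearEquiv).trans
        (Module.finrank_pi_fintype Fη (M := fun a => (M a).presheaf.stalk (genericPoint (Curv2.bc k X K))))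
    rw [VB5.grk_eq hP] at h1
    intro a
    by_contra h
    have := Finset.sum_lt_sum (fun b _ => hpos b) ⟨a, Finset.mem_univ a, lt_of_le_of_ne (hpos a) (Ne.symm h)⟩
    rw [← h1] at this
    simp at this
  have hline : ∀ a, PicF.IsInvertible (M a) := fun a => VB5.invertible_of_rank_one (hrk a ▸ hbund a)
  have hnoniso : ∀ a b, a ≠ b → ¬ Nonempty (M a ≅ M b) := by
    rintro a b hab ⟨u⟩
    let A : End P := p a ≫ u.hom ≫ i b
    let B : End P := p b ≫ u.inv ≫ i a
    have h1 : B * A = p a ≫ i a := by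
      show (p a ≫ u.hom ≫ i b) ≫ (p b ≫ u.inv ≫ i a) = _
      simp [reassoc_of% hip b]
    have h2 : A * B = p b ≫ i b := by
      show (p b ≫ u.inv ≫ i a) ≫ (p a ≫ u.hom ≫ i b) = _
      simp [reassoc_of% hip a]
    have h := congr_fun (((hψ a).symm.trans (congrArg ψ h1.symm)).trans
      ((map_mul ψ B A).trans ((mul_comm _ _).trans ((map_mul ψ A B).symm.trans ((congrArg ψ h2).trans (hψ b)))))) a
    simp [hab] at h
  have hnb : ∀ (a : Fin r) (L : X.Modules), PicF.IsInvertible L →
      ¬ Nonempty (M a ≅ (Scheme.Modules.pullback g).obj L) := by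
    rintro a L hL ⟨u⟩
    obtain ⟨f, f', hff⟩ := exists_comp_ne_zero K (isFinLocFree_of_rank (PicLib.isFinLocFreeOfRank_one hL)) hEf
      (u.inv ≫ i a) (p a ≫ u.hom) (by
        rw [Category.assoc, reassoc_of% hip a, u.inv_hom_id]
        intro h0
        exact hnz a (((IsZero.iff_id_eq_zero _).2 h0).of_iso u))
    haveI := VB5.isIso_line_endo k hdim (VB5.isIntegrallyClosed' k hdim) hL _ hff
    haveI := isIso_of_retract (VB5.idem_of_indecomposable hind.2)
      (VB5.not_isZero_of_grk (PicLib.isFinLocFreeOfRank_one hL) Nat.one_pos) f (f' ≫ inv (f ≫ f'))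
      (by rw [← Category.assoc, IsIso.hom_inv_id])
    have := VB5.grk_congr (asIso f)
    rw [VB5.rank_one hL, VB5.grk_eq hE] at this
    exact hr.ne_one this.symm
  have hdeg : ∀ a b, VB5.gdeg K (M a) = VB5.gdeg K (M b) := by
    obtain ⟨a₀, -, hmax⟩ := Finset.exists_max_image Finset.univ (fun a => VB5.gdeg K (M a))
      ⟨⟨0, hr.pos⟩, Finset.mem_univ _⟩
    obtain ⟨L, hL, hLd⟩ := VB5.exists_line_deg_rat k hdim O hO (VB5.gdeg K (M a₀) - 1)
    haveI := (VB5.isCoh_of_line hL).1
    let L' := (Scheme.Modules.pullback g).obj L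
    have hL' : PicF.IsInvertible L' :=
      VB5.invertible_of_rank_one (VarietyLib.isFinLocFreeOfRank_pullback g (PicLib.isFinLocFreeOfRank_one hL))
    have hL'd : VB5.gdeg K L' = VB5.gdeg K (M a₀) - 1 := by
      rw [← VB5.deg_line K hL', CurveRR24.deg_bc (isPullback_bc K) L 1, VB5.deg_line k hL, hLd]
    let V := L ⟶ E
    haveI : Module.Finite k V := VB5.finite_hom k (isFinLocFree_of_rank (PicLib.isFinLocFreeOfRank_one hL)) hEf
    let act : End E →ₐ[k] Module.End k V :=
      AlgHom.ofLinearMap
        { toFun := fun f => Linear.rightComp k L (f : E ⟶ E)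
          map_add' := fun f f' => LinearMap.ext fun w => Preadditive.comp_add _ _ _ w f f'
          map_smul' := fun c f => LinearMap.ext fun w => Linear.comp_smul _ _ _ w c f }
        (LinearMap.ext fun w => Category.comp_id w) fun f f' => LinearMap.ext fun w => (Category.assoc w f' f).symm
    have h1 : r ∣ Module.finrank k V := hF ▸ finrank_dvd ρ hρ hN _ V act rfl
    let eV : (L' ⟶ P) ≃ₗ[K] ∀ a, (L' ⟶ M a) :=
      { toFun := fun w a => w ≫ p a
        invFun := fun ws => ∑ a, ws a ≫ i a
        map_add' := fun w w' => funext fun a => Preadditive.add_comp _ _ _ w w' (p a)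
        map_smul' := fun c w => funext fun a => Linear.smul_comp _ _ _ c w (p a)
        left_inv := fun w => by
          simp only [Category.assoc, ← Preadditive.comp_sum, hsum]
          exact Category.comp_id w
        right_inv := fun ws => funext fun b => by
          show (∑ a, ws a ≫ i a) ≫ p b = ws b
          rw [Preadditive.sum_comp, Finset.sum_eq_single b (fun a _ hab => by rw [Category.assoc, hne a b hab, comp_zero])
            (fun h => absurd (Finset.mem_univ b) h), Category.assoc, hip, Category.comp_id] }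
    haveI : Module.Finite K (L' ⟶ P) := Module.Finite.equiv
      (LinearEquiv.ofBijective _ (bijective_homBC (isPullback_bc K) L E
        (isFinLocFree_of_rank (PicLib.isFinLocFreeOfRank_one hL)) hEf))
    haveI : ∀ a, Module.Finite K (L' ⟶ M a) := fun a =>
      VB5.finite_hom K (isFinLocFree_of_rank (PicLib.isFinLocFreeOfRank_one hL'))
        (isFinLocFree_of_rank (PicLib.isFinLocFreeOfRank_one (hline a)))
    have hterm : ∀ a, Module.finrank K (L' ⟶ M a) = if VB5.gdeg K (M a) = VB5.gdeg K (M a₀) then 1 else 0 := by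
      intro a
      split
      · rename_i h; exact finrank_hom_succ K hdK hgK hL' (hline a) (by omega)
      · rename_i h
        haveI : Subsingleton (L' ⟶ M a) := subsingleton_of_forall_eq 0
          (hom_eq_zero_of_le K hdK hL' (hline a) (by have := hmax a (Finset.mem_univ a); omega)
            fun ⟨e⟩ => hnb a L hL ⟨e.symm⟩)
        exact Module.finrank_zero_of_subsingleton
    have h2 : Module.finrank k V = (Finset.univ.filter fun a => VB5.gdeg K (M a) = VB5.gdeg K (M a₀)).card := by
      rw [← Module.finrank_baseChange (R := K) (S := k) (M' := V),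
        (LinearEquiv.ofBijective _ (bijective_homBC (isPullback_bc K) L E
          (isFinLocFree_of_rank (PicLib.isFinLocFreeOfRank_one hL)) hEf)).finrank_eq,
        eV.finrank_eq, Module.finrank_pi_fintype, Finset.sum_congr rfl fun a _ => hterm a, Finset.card_filter]
    rw [h2] at h1
    have h3 := Nat.le_of_dvd (Finset.card_pos.2 ⟨a₀, by simp⟩) h1
    have h4 := Finset.eq_univ_of_card _ ((le_antisymm (le_of_le_of_eq (Finset.card_le_univ _) (Fintype.card_fin r)) h3).trans (Fintype.card_fin r).symm)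
    have h5 : ∀ a, VB5.gdeg K (M a) = VB5.gdeg K (M a₀) := fun a => by
      have h := Finset.mem_univ a
      rw [← h4] at h
      exact (Finset.mem_filter.1 h).2
    exact fun a b => (h5 a).trans (h5 b).symm
  have hinj : Function.Injective ρ := by
    refine (injective_iff_map_eq_zero ρ).2 fun f hf => ?_
    let x : End P := (Scheme.Modules.pullback g).map f
    have hx : ψ x = 0 := hψρ f hf
    have hzero : ∀ a b, i a ≫ x ≫ p b = 0 := fun a b => by
      rcases eq_or_ne a b with rfl | hab
      · by_contra hy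
        haveI := VB5.isIso_line_endo K hdK (VB5.isIntegrallyClosed' K hdK) (hline a) _ hy
        let A : End P := p a ≫ (i a ≫ x ≫ p a) ≫ i a
        let B : End P := p a ≫ inv (i a ≫ x ≫ p a) ≫ i a
        let Q : End P := p a ≫ i a
        have h1 : B * A = Q := by
          show (p a ≫ (i a ≫ x ≫ p a) ≫ i a) ≫ (p a ≫ inv (i a ≫ x ≫ p a) ≫ i a) = p a ≫ i a
          rw [Category.assoc, Category.assoc, reassoc_of% hip a, IsIso.hom_inv_id_assoc]
        have h2 : A = Q * x * Q := by
          show p a ≫ (i a ≫ x ≫ p a) ≫ i a = (p a ≫ i a) ≫ x ≫ p a ≫ i a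
          simp
        have h3 : ψ Q = 0 := by rw [← h1, map_mul, h2, map_mul, map_mul, hx]; simp
        have h4 := congr_fun ((hψ a).symm.trans h3) a
        simp at h4
      · exact hom_eq_zero_of_le K hdK (hline a) (hline b) (le_of_eq (hdeg b a)) (hnoniso a b hab) _
    have hx0 : x = 0 := by
      calc x = (∑ a, p a ≫ i a) ≫ x ≫ ∑ b, p b ≫ i b := by rw [hsum, Category.id_comp, Category.comp_id]
        _ = ∑ a, ∑ b, p a ≫ (i a ≫ x ≫ p b) ≫ i b := by
          simp only [Preadditive.sum_comp, Preadditive.comp_sum, Category.assoc]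
          exact Finset.sum_comm
        _ = 0 := by simp [hzero]
    have h1 : endBC (k := k) K E (1 ⊗ₜ f) = 0 := (endBC_tmul K E 1 f).trans ((one_smul K _).trans hx0)
    exact Algebra.TensorProduct.includeRight_injective (R := k) (A := K) (algebraMap k K).injective
      (((bijective_endBC K hEf).1 (h1.trans (map_zero _).symm)).trans (tmul_zero _ _).symm)
  exact ⟨⟨F, inferInstance, inferInstance, hF, ⟨AlgEquiv.ofBijective ρ ⟨hinj, hρ⟩⟩⟩, M, hline,
    ⟨φ ≪≫ biproduct.isoCoproduct M⟩, hnoniso, hnb, hdeg⟩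

end Groth.Agent.GenOneBC5
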