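import Mathlib

/-!
# Splitting along complete orthogonal idempotents
-/

set_option autoImplicit false
set_option linter.unusedSectionVars false

universe v u

open CategoryTheory CategoryTheory.Limits

namespace Groth.Agent.GenOneBC5

variable {C : Type u} [Category.{v} C] [Preadditive C]

theorem exists_biproduct_iso {E : C} {n : ℕ} {M : Fin n → C} [HasBiproduct M] (i : ∀ a, M a ⟶ E)
    (p : ∀ a, E ⟶ M a) (hip : ∀ a, i a ≫ p a = 𝟙 _) (hne : ∀ a b, a ≠ b → i a ≫ p b = 0)
    (hs : ∑ a, p a ≫ i a = 𝟙 E) :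
    ∃ φ : E ≅ ⨁ M, (∀ a, φ.hom ≫ biproduct.π M a = p a) ∧ ∀ a, biproduct.ι M a ≫ φ.inv = i a := by
  refine ⟨{ hom := biproduct.lift p, inv := biproduct.desc i, hom_inv_id := ?_, inv_hom_id := ?_ },
    fun a => biproduct.lift_π _ _, fun a => biproduct.ι_desc _ _⟩
  · rw [biproduct.lift_desc, hs]
  · refine biproduct.hom_ext' _ _ fun a => biproduct.hom_ext _ _ fun b => ?_
    simp only [Category.assoc, biproduct.ι_desc_assoc, biproduct.lift_π, Category.comp_id]
    rcases eq_or_ne a b with rfl | hab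
    · rw [hip, biproduct.ι_π_self]
    · rw [hne a b hab, biproduct.ι_π_ne _ hab]

/-- The image of an idempotent, as the kernel of its complement. -/
noncomputable abbrev part [HasKernels C] {E : C} (e : E ⟶ E) : C := kernel (𝟙 E - e)

/-- The projection onto `part e`. -/
noncomputable def toPart [HasKernels C] {E : C} (e : E ⟶ E) (he : e ≫ e = e) : E ⟶ part e :=
  kernel.lift _ e (by rw [Preadditive.comp_sub, Category.comp_id, he, sub_self])

theorem toPart_ι [HasKernels C] {E : C} (e : E ⟶ E) (he : e ≫ e = e) :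
    toPart e he ≫ kernel.ι (𝟙 E - e) = e :=
  kernel.lift_ι _ _ _

theorem ι_toPart [HasKernels C] {E : C} (e : E ⟶ E) (he : e ≫ e = e) :
    kernel.ι (𝟙 E - e) ≫ toPart e he = 𝟙 _ := by
  rw [← cancel_mono (kernel.ι (𝟙 E - e)), Category.assoc, toPart_ι, Category.id_comp]
  have h := kernel.condition (𝟙 E - e)
  rw [Preadditive.comp_sub, Category.comp_id, sub_eq_zero] at h
  exact h.symm

/-- Complete orthogonal idempotents split an object. -/
theorem exists_split [HasKernels C] [HasFiniteBiproducts C] {E : C} {n : ℕ} (e : Fin n → (E ⟶ E))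
    (he : CompleteOrthogonalIdempotents (R := End E) e) :
    ∃ (i : ∀ a, part (e a) ⟶ E) (p : ∀ a, E ⟶ part (e a)), (∀ a, Mono (i a)) ∧
      (∀ a, i a ≫ p a = 𝟙 _) ∧ (∀ a, p a ≫ i a = e a) ∧ (∀ a b, a ≠ b → i a ≫ p b = 0) ∧
      ∑ a, p a ≫ i a = 𝟙 E := by
  have hid : ∀ a, (e a : E ⟶ E) ≫ e a = e a := fun a => he.idem a
  refine ⟨fun a => kernel.ι _, fun a => toPart _ (hid a), fun a => inferInstance, fun a => ι_toPart _ _,
    fun a => toPart_ι _ _, fun a b hab => ?_, ?_⟩
  · have h : (e a : E ⟶ E) ≫ e b = 0 := he.ortho hab.symm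
    rw [← cancel_mono (kernel.ι (𝟙 E - (e b : E ⟶ E))), Category.assoc, toPart_ι, zero_comp]
    dsimp only
    have h1 : kernel.ι (𝟙 E - (e a : E ⟶ E)) ≫ e a = kernel.ι (𝟙 E - (e a : E ⟶ E)) := by
      have := kernel.condition (𝟙 E - (e a : E ⟶ E))
      rw [Preadditive.comp_sub, Category.comp_id, sub_eq_zero] at this
      exact this.symm
    rw [← h1, Category.assoc, h, comp_zero]
  · exact (Finset.sum_congr rfl fun a _ => toPart_ι _ _).trans he.complete

/-- A retract of an object without idempotents is the whole object. -/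
theorem isIso_of_retract {A B : C} (hB : ∀ e : B ⟶ B, e ≫ e = e → e = 0 ∨ e = 𝟙 B) (hA : ¬ IsZero A)
    (f : A ⟶ B) (g : B ⟶ A) (h : f ≫ g = 𝟙 A) : IsIso f := by
  rcases hB (g ≫ f) (by rw [Category.assoc, reassoc_of% h]) with h0 | h1
  · refine absurd ((IsZero.iff_id_eq_zero A).2 ?_) hA
    calc 𝟙 A = f ≫ (g ≫ f) ≫ g := by rw [Category.assoc, ← Category.assoc f g, h, Category.id_comp]
      _ = 0 := by rw [h0, zero_comp, comp_zero]
  · exact ⟨g, h, h1⟩

end Groth.Agent.GenOneBC5
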