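import Groth.Agent.GenOneBC5.Local
import Groth.Agent.VB5.Endo
import Groth.Agent.VB5.RatPt

/-!
# The residue degree of the endomorphism algebra divides the rank (rational point)
-/

set_option autoImplicit false
set_option linter.style.haveILetI false
set_option linter.unusedSectionVars false
set_option backward.isDefEq.respectTransparency.types false

universe u

open CategoryTheory CategoryTheory.Limits AlgebraicGeometry Opposite TopologicalSpace

namespace Groth.Agent.GenOneBC5

variable {k : Type u} [Field k] {X : Scheme.{u}} [X.Over (Spec (CommRingCat.of k))]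

theorem stalkMap_smul_id (E : X.Modules) (P : X) (c : k) (v : E.presheaf.stalk P) :
    ((DerSch.stalkFunctor X P).map (c • 𝟙 E)).hom v = Curv2.stalkMap k X P c • v := by
  rw [← VB5.smulMod_eq_smul]
  exact EulerLib.stalkMapₗ_smulMod E _ P v

/-- Endomorphisms act on the fibre at a point with residue field `k`. -/
theorem exists_fibre_action {r : ℕ} {E : X.Modules} (hE : FlatMod.IsFinLocFreeOfRank r E) (P : X)
    (hP : Function.Bijective (Curv2.resMap k X P)) :
    ∃ (V : Type u) (_ : AddCommGroup V) (_ : Module k V) (_ : FiniteDimensional k V) (_ : End E →ₐ[k] Module.End k V),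
      Module.finrank k V = r := by
  obtain ⟨b⟩ := SplitP1.nonempty_basis_stalk hE P
  let St := DerSch.stalkFunctor X P
  let e : k ≃+* X.residueField P := RingEquiv.ofBijective _ hP
  let π : X.presheaf.stalk P →+* k := e.symm.toRingHom.comp (X.residue P).hom
  have hπ : ∀ c, π (Curv2.stalkMap k X P c) = c := fun c => e.symm_apply_apply c
  let m : End E → Matrix (Fin r) (Fin r) k := fun f =>
    (LinearMap.toMatrixAlgEquiv b (St.map f).hom).map π
  let Φ : End E →+* Matrix (Fin r) (Fin r) k :=
    { toFun := m
      map_one' := by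
        show (LinearMap.toMatrixAlgEquiv b (St.map (𝟙 E)).hom).map π = 1
        rw [St.map_id]
        exact (congrArg (fun M => Matrix.map M π) (map_one (LinearMap.toMatrixAlgEquiv b))).trans
          (Matrix.map_one π π.map_zero π.map_one)
      map_mul' := fun f g => by
        show (LinearMap.toMatrixAlgEquiv b (St.map (g ≫ f)).hom).map π = _
        rw [St.map_comp]
        exact (congrArg (fun M => Matrix.map M π)
          (map_mul (LinearMap.toMatrixAlgEquiv b) (St.map f).hom (St.map g).hom)).trans Matrix.map_mul
      map_zero' := by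
        show (LinearMap.toMatrixAlgEquiv b (St.map 0).hom).map π = 0
        rw [St.map_zero]
        exact (congrArg (fun M => Matrix.map M π) (map_zero (LinearMap.toMatrixAlgEquiv b))).trans
          (Matrix.map_zero π π.map_zero)
      map_add' := fun f g => by
        show (LinearMap.toMatrixAlgEquiv b (St.map (f + g)).hom).map π = _
        rw [St.map_add]
        exact (congrArg (fun M => Matrix.map M π)
          (map_add (LinearMap.toMatrixAlgEquiv b) (St.map f).hom (St.map g).hom)).trans
          (Matrix.map_add π π.map_add _ _) }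
  have key : ∀ (L : Module.End (X.presheaf.stalk P) (E.presheaf.stalk P)) (t : X.presheaf.stalk P),
      (∀ v, L v = t • v) → (LinearMap.toMatrixAlgEquiv b L).map π = π t • (1 : Matrix (Fin r) (Fin r) k) := by
    intro L t hL
    rw [show L = t • (1 : Module.End (X.presheaf.stalk P) (E.presheaf.stalk P)) from LinearMap.ext hL,
      map_smul, map_one]
    ext i j
    by_cases hij : i = j <;> simp [hij]
  let ΦA : End E →ₐ[k] Matrix (Fin r) (Fin r) k :=
    { Φ with
      commutes' := fun c => by
        rw [Algebra.algebraMap_eq_smul_one, Algebra.algebraMap_eq_smul_one]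
        exact (key _ _ fun v => stalkMap_smul_id E P c v).trans (by rw [hπ]) }
  exact ⟨ULift.{u} (Fin r) → k, inferInstance, inferInstance, inferInstance,
    ((LinearEquiv.funCongrLeft k k Equiv.ulift.{u, 0}).conjAlgEquiv k).toAlgHom.comp
      (Matrix.toLinAlgEquiv'.toAlgHom.comp ΦA), by simp⟩

variable [IsProper (X ↘ Spec (CommRingCat.of k))] (O : Spec (CommRingCat.of k) ⟶ X)
  (hO : O ≫ (X ↘ Spec (CommRingCat.of k)) = 𝟙 _)

include hO in
/-- The residue degree of `End E` divides the rank. -/
theorem finrank_dvd_rank {r : ℕ} {E : X.Modules} (hE : FlatMod.IsFinLocFreeOfRank r E) {F : Type u} [Field F]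
    [Algebra k F] [Module.Finite k F] (ρ : End E →ₐ[k] F) (hρ : Function.Surjective ρ) {N : ℕ}
    (hN : (LinearMap.ker ρ.toLinearMap) ^ N = ⊥) : Module.finrank k F ∣ r := by
  obtain ⟨pt⟩ := (inferInstance : Nonempty (PrimeSpectrum k))
  have h1 := CurveRR24.finrank_resField_section O hO pt
  have hb : Function.Bijective (Curv2.resMap k X (O pt)) := by
    letI := Curv2.resAlgebra k X (O pt)
    refine ⟨(Curv2.resMap k X (O pt)).injective, fun v => ?_⟩
    obtain ⟨c, hc⟩ := exists_smul_eq_of_finrank_eq_one h1 (one_ne_zero (α := X.residueField (O pt))) v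
    exact ⟨c, by rw [← hc, Algebra.smul_def, mul_one]; rfl⟩
  obtain ⟨V, _, _, _, φ, hr⟩ := exists_fibre_action hE _ hb
  exact hr ▸ finrank_dvd ρ hρ hN _ V φ rfl

end Groth.Agent.GenOneBC5
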