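import Groth.Agent.GenOneBC5.HomBC
import Groth.Agent.GenOneBC5.Point
import Groth.Agent.GenOneBC5.Cat
import Groth.Agent.VB5.Split
import Groth.Agent.VB5.Line

/-!
# The endomorphism algebra of a bundle and its base change
-/

set_option autoImplicit false
set_option linter.style.haveILetI false
set_option linter.unusedSectionVars false
set_option backward.isDefEq.respectTransparency.types false

universe u

open CategoryTheory CategoryTheory.Limits AlgebraicGeometry Opposite TopologicalSpace TensorProduct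
open Groth.Agent.Coherent Groth.Agent.PicLib Groth.Agent.CurveRR24

namespace Groth.Agent.GenOneBC5

variable {k : Type u} [Field k] {X : Scheme.{u}} [X.Over (Spec (CommRingCat.of k))]

theorem isFinLocFree_of_rank {r : ℕ} {E : X.Modules} (hE : FlatMod.IsFinLocFreeOfRank r E) :
    FlatMod.IsFinLocFree E :=
  LocFreeLib.isFinLocFree_of_rank hE

variable [IsProper (X ↘ Spec (CommRingCat.of k))]

/-- The residue field of the endomorphisms of an indecomposable bundle. -/
theorem exists_residue_bundle [Finite k] {r : ℕ} {E : X.Modules} (hE : FlatMod.IsFinLocFreeOfRank r E)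
    (hnz : ¬ IsZero E) (hind : ∀ E₁ E₂ : X.Modules, Nonempty (E ≅ E₁ ⊞ E₂) → IsZero E₁ ∨ IsZero E₂)
    (O : Spec (CommRingCat.of k) ⟶ X) (hO : O ≫ (X ↘ Spec (CommRingCat.of k)) = 𝟙 _) :
    ∃ (F : Type u) (_ : Field F) (_ : Algebra k F) (_ : Module.Finite k F) (ρ : End E →ₐ[k] F),
      Function.Surjective ρ ∧ (∀ f, ρ f ≠ 0 → IsUnit f) ∧
        (∃ N : ℕ, (LinearMap.ker ρ.toLinearMap) ^ N = ⊥) ∧ Module.finrank k F ∣ r := by
  haveI := CurveRR24.isLocallyNoetherian_of_proper k (X := X)
  haveI : Module.Finite k (End E) := VB5.finite_hom k (isFinLocFree_of_rank hE) (isFinLocFree_of_rank hE)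
  haveI : Nontrivial (End E) := ⟨⟨𝟙 E, 0, fun h => hnz ((IsZero.iff_id_eq_zero E).2 h)⟩⟩
  obtain ⟨F, _, _, _, ρ, hρ, hu, N, hN⟩ := exists_residue (k := k) (End E) fun a =>
    VB5.isUnit_or_isNilpotent (k := k) (A := End E) (fun e he => VB5.idem_of_indecomposable hind e he) a
  exact ⟨F, ‹_›, ‹_›, ‹_›, ρ, hρ, hu, ⟨N, hN⟩, finrank_dvd_rank O hO hE ρ hρ hN⟩

variable [CompactSpace X] [QuasiSeparatedSpace X] (K : Type u) [Field K] [Algebra k K]

theorem isPullback_bc : IsPullback (Curv2.bcFst k X K) (Curv2.bc k X K ↘ Spec (CommRingCat.of K))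
    (X ↘ Spec (CommRingCat.of k)) (Spec.map (CommRingCat.ofHom (algebraMap k K))) :=
  IsPullback.of_hasPullback _ _

/-- `K ⊗ End E → End (E_K)`. -/
noncomputable def endBC (E : X.Modules) :
    K ⊗[k] End E →ₐ[K] End ((Scheme.Modules.pullback (Curv2.bcFst k X K)).obj E) :=
  Algebra.TensorProduct.algHomOfLinearMapTensorProduct (S := K) (R := k) (B := End E)
    (homBC (isPullback_bc K) E E)
    (fun a₁ a₂ b₁ b₂ => by
      show homBC (isPullback_bc K) E E ((a₁ * a₂) ⊗ₜ (b₂ ≫ b₁)) = _
      rw [homBC_tmul, Functor.map_comp]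
      show _ = homBC (isPullback_bc K) E E (a₂ ⊗ₜ b₂) ≫ homBC (isPullback_bc K) E E (a₁ ⊗ₜ b₁)
      rw [homBC_tmul, homBC_tmul, Linear.smul_comp, Linear.comp_smul, smul_smul, mul_comm a₁])
    (by
      show homBC (isPullback_bc K) E E (1 ⊗ₜ 𝟙 E) = 𝟙 _
      rw [homBC_tmul, one_smul, CategoryTheory.Functor.map_id])

theorem endBC_tmul (E : X.Modules) (b : K) (f : End E) :
    endBC K E (b ⊗ₜ f) = b • (Scheme.Modules.pullback (Curv2.bcFst k X K)).map f := rfl

theorem bijective_endBC {E : X.Modules} (hE : FlatMod.IsFinLocFree E) :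
    Function.Bijective (endBC (k := k) K E) :=
  bijective_homBC (isPullback_bc K) E E hE hE

/-- Maps between pullbacks are combinations of pullbacks of maps. -/
theorem exists_sum {A B : X.Modules} (hA : FlatMod.IsFinLocFree A) (hB : FlatMod.IsFinLocFree B)
    (u : (Scheme.Modules.pullback (Curv2.bcFst k X K)).obj A ⟶ (Scheme.Modules.pullback (Curv2.bcFst k X K)).obj B) :
    ∃ (n : ℕ) (b : Fin n → K) (f : Fin n → (A ⟶ B)),
      u = ∑ a, b a • (Scheme.Modules.pullback (Curv2.bcFst k X K)).map (f a) := by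
  obtain ⟨z, rfl⟩ := (bijective_homBC (isPullback_bc K) A B hA hB).2 u
  obtain ⟨S, hS⟩ := TensorProduct.exists_finset z
  refine ⟨S.card, fun a => (S.equivFin.symm a).1.1, fun a => (S.equivFin.symm a).1.2, ?_⟩
  rw [hS, map_sum, ← Finset.sum_coe_sort]
  refine (Fintype.sum_equiv S.equivFin _ _ fun x => ?_)
  simp

/-- A retraction after base change gives a composable pair with nonzero composite. -/
theorem exists_comp_ne_zero {A B : X.Modules} (hA : FlatMod.IsFinLocFree A) (hB : FlatMod.IsFinLocFree B)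
    (u : (Scheme.Modules.pullback (Curv2.bcFst k X K)).obj A ⟶ (Scheme.Modules.pullback (Curv2.bcFst k X K)).obj B)
    (v : (Scheme.Modules.pullback (Curv2.bcFst k X K)).obj B ⟶ (Scheme.Modules.pullback (Curv2.bcFst k X K)).obj A)
    (huv : u ≫ v ≠ 0) : ∃ (f : A ⟶ B) (f' : B ⟶ A), f ≫ f' ≠ 0 := by
  by_contra! h
  obtain ⟨n, b, f, rfl⟩ := exists_sum K hA hB u
  obtain ⟨m, c, f', rfl⟩ := exists_sum K hB hA v
  refine huv ?_
  simp only [Preadditive.sum_comp, Preadditive.comp_sum, Linear.smul_comp, Linear.comp_smul, ← Functor.map_comp,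
    h, Functor.map_zero, smul_zero, Finset.sum_const_zero]

end Groth.Agent.GenOneBC5
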