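import Groth.Agent.GenOneBC5.Lines
import Groth.Agent.AutCount5.Basic

/-!
# Consequences: descent of isomorphisms, automorphisms
-/

set_option autoImplicit false
set_option linter.style.haveILetI false
set_option linter.unusedSectionVars false
set_option backward.isDefEq.respectTransparency.types false

universe u

open CategoryTheory CategoryTheory.Limits AlgebraicGeometry Opposite TopologicalSpace TensorProduct
open Groth.Agent.Coherent Groth.Agent.PicLib Groth.Agent.CurveRR24

namespace Groth.Agent.GenOneBC5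

variable {k : Type u} [Field k] {X : Scheme.{u}} [X.Over (Spec (CommRingCat.of k))]
  [IsProper (X ↘ Spec (CommRingCat.of k))] [GeometricallyIntegral (X ↘ Spec (CommRingCat.of k))]

/-- With a field of endomorphisms, a retraction after base change descends. -/
theorem exists_retract (K : Type u) [Field K] [Algebra k K] {r : ℕ} (hr : 0 < r) {A B : X.Modules}
    (hA : FlatMod.IsFinLocFreeOfRank r A) (hB : FlatMod.IsFinLocFree B)
    (hF : ∀ f : A ⟶ A, f ≠ 0 → IsIso f)
    (u : (Scheme.Modules.pullback (Curv2.bcFst k X K)).obj A ⟶ (Scheme.Modules.pullback (Curv2.bcFst k X K)).obj B)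
    (v : (Scheme.Modules.pullback (Curv2.bcFst k X K)).obj B ⟶ (Scheme.Modules.pullback (Curv2.bcFst k X K)).obj A)
    (huv : u ≫ v = 𝟙 _) : ∃ (f : A ⟶ B) (f' : B ⟶ A), f ≫ f' = 𝟙 A := by
  haveI : IsIntegral X := GeometricallyIntegral.isIntegral_of_subsingleton (X ↘ Spec (CommRingCat.of k))
  haveI := CurveRR24.isLocallyNoetherian_of_proper k (X := X)
  haveI := EulerLib.isNoetherian_of_proper k (X := X)
  haveI : QuasiSeparatedSpace X := inferInstance
  haveI : IsProper (Curv2.bc k X K ↘ Spec (CommRingCat.of K)) := inferInstanceAs (IsProper (Curv2.bcSnd k X K))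
  haveI := CurveRR24.isLocallyNoetherian_of_proper K (X := Curv2.bc k X K)
  obtain ⟨f, f', hne⟩ := exists_comp_ne_zero K (isFinLocFree_of_rank hA) hB u v (by
    rw [huv]
    exact fun h => VB5.not_isZero_of_grk (VarietyLib.isFinLocFreeOfRank_pullback (Curv2.bcFst k X K) hA) hr
      ((IsZero.iff_id_eq_zero _).2 h))
  haveI := hF _ hne
  exact ⟨f, f' ≫ inv (f ≫ f'), by rw [← Category.assoc, IsIso.hom_inv_id]⟩

theorem isIso_of_endo_field {A : X.Modules} {F : Type u} [Field F] [Algebra k F] (e : End A ≃ₐ[k] F)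
    (f : A ⟶ A) (hf : f ≠ 0) : IsIso f :=
  (CategoryTheory.isUnit_iff_isIso (C := X.Modules) (X := A) f).1 (by
    let f' : End A := f
    have h1 : IsUnit (e f') := isUnit_iff_ne_zero.2 fun h => hf ((map_eq_zero_iff e e.injective).1 h)
    exact (isUnit_map_iff e f').1 h1)

/-- Automorphisms of a module with a field of endomorphisms. -/
noncomputable def autEquiv {A : X.Modules} {F : Type u} [Field F] [Algebra k F] (e : End A ≃ₐ[k] F) :
    Aut A ≃* Fˣ :=
  (Aut.unitsEndEquivAut A).symm.trans (Units.mapEquiv e.toMulEquiv)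

theorem card_aut_field [Finite k] {A : X.Modules} {F : Type u} [Field F] [Algebra k F] {n : ℕ} (hn : 0 < n)
    (hF : Module.finrank k F = n) (e : End A ≃ₐ[k] F) : Nat.card (Aut A) = Nat.card k ^ n - 1 := by
  haveI : Module.Finite k F := Module.finite_of_finrank_pos (hF ▸ hn)
  haveI : Finite F := Module.finite_of_finite k
  rw [Nat.card_congr (autEquiv e).toEquiv, Nat.card_units, Module.natCard_eq_pow_finrank (K := k), hF]

variable [Smooth (X ↘ Spec (CommRingCat.of k))]

/-- A bundle of degree zero and rank two, indecomposable but not geometrically, has no maps to or from `O`. -/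
theorem hom_structure_eq_zero [Finite k] (hdim : topologicalKrullDim X = 1) (hg : Curv2.genus k X = 1)
    (O : Spec (CommRingCat.of k) ⟶ X) (hO : O ≫ (X ↘ Spec (CommRingCat.of k)) = 𝟙 _)
    {G : X.Modules} (hG : FlatMod.IsFinLocFreeOfRank 2 G) (hdeg : Curv2.deg k X G 2 = 0)
    (hind : ¬ IsZero G ∧ ∀ E₁ E₂ : X.Modules, Nonempty (G ≅ E₁ ⊞ E₂) → IsZero E₁ ∨ IsZero E₂)
    (hng : ∃ (K₀ : Type u) (_ : Field K₀) (_ : Algebra k K₀) (E₁ E₂ : (Curv2.bc k X K₀).Modules),
      ¬ IsZero E₁ ∧ ¬ IsZero E₂ ∧ Nonempty ((Scheme.Modules.pullback (Curv2.bcFst k X K₀)).obj G ≅ E₁ ⊞ E₂))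
    (K : Type u) [Field K] [Algebra k K] (hK : Module.finrank k K = 2) :
    (∀ f : Coh.structureModule X ⟶ G, f = 0) ∧ ∀ f : G ⟶ Coh.structureModule X, f = 0 := by
  obtain ⟨-, M, hM, ⟨φ⟩, -, hnb, hd⟩ := main hdim hg O hO Nat.prime_two hG hind hng K hK
  haveI : IsIntegral X := GeometricallyIntegral.isIntegral_of_subsingleton (X ↘ Spec (CommRingCat.of k))
  haveI := CurveRR24.isLocallyNoetherian_of_proper k (X := X)
  haveI := EulerLib.isNoetherian_of_proper k (X := X)
  haveI : QuasiSeparatedSpace X := inferInstance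
  haveI : IsProper (Curv2.bc k X K ↘ Spec (CommRingCat.of K)) := inferInstanceAs (IsProper (Curv2.bcSnd k X K))
  haveI : Smooth (Curv2.bc k X K ↘ Spec (CommRingCat.of K)) := inferInstanceAs (Smooth (Curv2.bcSnd k X K))
  haveI : GeometricallyIntegral (Curv2.bc k X K ↘ Spec (CommRingCat.of K)) :=
    inferInstanceAs (GeometricallyIntegral (Curv2.bcSnd k X K))
  haveI := CurveRR24.isLocallyNoetherian_of_proper K (X := Curv2.bc k X K)
  haveI : Limits.HasFiniteBiproducts (Curv2.bc k X K).Modules := Limits.HasFiniteBiproducts.of_hasFiniteProducts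
  have hdK : topologicalKrullDim (Curv2.bc k X K) = 1 :=
    (DimLib.topologicalKrullDim_bc (X ↘ Spec (CommRingCat.of k)) K).trans hdim
  let g := Curv2.bcFst k X K
  let eP : (Scheme.Modules.pullback g).obj G ≅ M 0 ⊞ M 1 :=
    φ ≪≫ (biproduct.isoCoproduct M).symm ≪≫
      { hom := biprod.lift (biproduct.π M 0) (biproduct.π M 1)
        inv := biprod.desc (biproduct.ι M 0) (biproduct.ι M 1)
        hom_inv_id := by
          refine biproduct.hom_ext' _ _ fun j => biproduct.hom_ext _ _ fun l => ?_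
          fin_cases j <;> fin_cases l <;>
            simp [biprod.lift_desc, biproduct.ι_π_self, biproduct.ι_π_ne]
        inv_hom_id := by
          refine biprod.hom_ext' _ _ (biprod.hom_ext _ _ ?_ ?_) (biprod.hom_ext _ _ ?_ ?_) <;>
            simp [biproduct.ι_π_self, biproduct.ι_π_ne] }
  have hPr : FlatMod.IsFinLocFreeOfRank 2 ((Scheme.Modules.pullback g).obj G) :=
    VarietyLib.isFinLocFreeOfRank_pullback g hG
  haveI := (SplitP1.isCoh_of_rank hG).1
  have h0 : ∀ a, VB5.gdeg K (M a) = 0 := by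
    let S := ShortComplex.mk (biprod.inl : M 0 ⟶ M 0 ⊞ M 1) (biprod.snd : M 0 ⊞ M 1 ⟶ M 1) biprod.inl_snd
    have hS : S.ShortExact := (ShortComplex.Splitting.ofHasBinaryBiproduct (M 0) (M 1)).shortExact
    have h := VB5.gdeg_additive K hS (VB5.isCoh_of_line (hM 0))
      (Coherent.isCoh_of_iso eP (SplitP1.isCoh_of_rank hPr)) (VB5.isCoh_of_line (hM 1))
    change VB5.gdeg K (M 0 ⊞ M 1) = VB5.gdeg K (M 0) + VB5.gdeg K (M 1) at h
    rw [← VB5.gdeg_congr K eP, ← VB5.deg_eq_gdeg K hPr, CurveRR24.deg_bc (isPullback_bc K) G 2, hdeg] at h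
    intro a
    have := hd a 0
    have := hd 1 0
    omega
  obtain ⟨eO⟩ : Nonempty ((Scheme.Modules.pullback g).obj (Coh.structureModule X) ≅ Coh.structureModule _) :=
    ⟨PicLoc.pullbackStructureIso g⟩
  have hno : ∀ a, ¬ Nonempty (M a ≅ Coh.structureModule _) := fun a ⟨e⟩ =>
    hnb a _ AmpleLib.isInvertible_structureModule ⟨e ≪≫ eO.symm⟩
  have hOl : PicF.IsInvertible (Coh.structureModule (Curv2.bc k X K)) := AmpleLib.isInvertible_structureModule
  have z1 : ∀ a, ∀ f : Coh.structureModule (Curv2.bc k X K) ⟶ M a, f = 0 := fun a =>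
    hom_eq_zero_of_le K hdK hOl (hM a) (by rw [h0 a, VB5.gdeg_structure K hdK]) fun ⟨e⟩ => hno a ⟨e.symm⟩
  have z2 : ∀ a, ∀ f : M a ⟶ Coh.structureModule (Curv2.bc k X K), f = 0 := fun a =>
    hom_eq_zero_of_le K hdK (hM a) hOl (by rw [h0 a, VB5.gdeg_structure K hdK]) (hno a)
  have hGf := isFinLocFree_of_rank hG
  have hOf := isFinLocFree_of_rank (PicLib.isFinLocFreeOfRank_one (AmpleLib.isInvertible_structureModule (X := X)))
  have inj : ∀ {A B : X.Modules}, FlatMod.IsFinLocFree A → FlatMod.IsFinLocFree B → ∀ f : A ⟶ B,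
      (Scheme.Modules.pullback g).map f = 0 → f = 0 := fun {A B} hA hB f hf => by
    have h1 : homBC (isPullback_bc (k := k) (X := X) K) A B (1 ⊗ₜ f) = 0 := by rw [homBC_tmul, one_smul]; exact hf
    have h2 : (1 : K) ⊗ₜ[k] f = 0 := (bijective_homBC (isPullback_bc K) A B hA hB).1 (h1.trans (map_zero _).symm)
    exact (Module.FaithfullyFlat.one_tmul_eq_zero_iff k (A ⟶ B) (A := K) f).1 h2
  refine ⟨fun f => inj hOf hGf f ?_, fun f => inj hGf hOf f ?_⟩
  · rw [← cancel_mono eP.hom, zero_comp, ← cancel_epi eO.inv, comp_zero]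
    refine biprod.hom_ext _ _ ?_ ?_ <;> rw [zero_comp] <;> exact (Category.assoc _ _ _).trans (z1 _ _)
  · rw [← cancel_epi eP.inv, comp_zero, ← cancel_mono eO.hom, zero_comp]
    refine biprod.hom_ext' _ _ ?_ ?_ <;> rw [comp_zero] <;> exact z2 _ _

end Groth.Agent.GenOneBC5
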