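import Mathlib

/-!
# Residue field of a finite local algebra over a finite field, and base change
-/

set_option autoImplicit false

universe u

open TensorProduct

namespace Groth.Agent.GenOneBC5

variable {k : Type u} [Field k]

/-- A surjection onto a field whose zero set is the set of non-units gives a residue map. -/
theorem exists_residue_of_hom (A : Type u) [Ring A] [Algebra k A] [Module.Finite k A]
    {B : Type u} [Field B] (f : A →+* B) (hf : Function.Surjective f) (hu : ∀ a, f a ≠ 0 ↔ IsUnit a) :
    ∃ (F : Type u) (_ : Field F) (_ : Algebra k F) (_ : Module.Finite k F) (ρ : A →ₐ[k] F),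
      Function.Surjective ρ ∧ (∀ a, ρ a ≠ 0 → IsUnit a) ∧
        ∃ N : ℕ, (LinearMap.ker ρ.toLinearMap) ^ N = ⊥ := by
  let iA : Algebra k B := (f.comp (algebraMap k A)).toAlgebra
  let ρ : A →ₐ[k] B := { f with commutes' := fun _ => rfl }
  refine ⟨B, inferInstance, iA, Module.Finite.of_surjective ρ.toLinearMap hf, ρ, hf,
    fun a ha => (hu a).1 ha, ?_⟩
  have : IsArtinianRing A := IsArtinianRing.of_finite k A
  have hle : RingHom.ker f ≤ Ring.jacobson A := by
    refine le_sInf fun m hm a ha => ?_
    have hmJ : m ≤ RingHom.ker f := fun b hb => by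
      by_contra h
      exact hm.1 (Ideal.eq_top_of_isUnit_mem m hb ((hu b).1 h))
    rcases eq_or_lt_of_le hmJ with h | h
    · exact h ▸ ha
    · exact absurd (hm.2 _ h) (RingHom.ker_ne_top f)
  obtain ⟨N, hN⟩ := IsSemiprimaryRing.isNilpotent (R := A)
  refine ⟨N + 1, eq_bot_iff.2 fun x hx => ?_⟩
  have hpow : ∀ n : ℕ, ∀ y ∈ (LinearMap.ker ρ.toLinearMap) ^ (n + 1), y ∈ (Ring.jacobson A) ^ (n + 1) := by
    intro n
    induction n with
    | zero => intro y hy; rw [zero_add, Submodule.pow_one] at hy ⊢; exact hle (show f y = 0 from hy)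
    | succ n ih =>
      intro y hy
      rw [Submodule.pow_succ] at hy
      rw [Submodule.pow_succ]
      refine Submodule.mul_induction_on hy (fun p hp q hq => ?_) fun p q hp hq => add_mem hp hq
      exact Ideal.mul_mem_mul (ih p hp) (hle (show f q = 0 from hq))
  have := hpow N x hx
  rw [Submodule.pow_succ, show (Ring.jacobson A) ^ N = (0 : Ideal A) from hN, zero_mul] at this
  exact this

/-- A finite algebra over a finite field whose elements are units or nilpotent has a residue field. -/
theorem exists_residue [Finite k] (A : Type u) [Ring A] [Algebra k A] [Module.Finite k A] [Nontrivial A]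
    (hloc : ∀ a : A, IsUnit a ∨ IsNilpotent a) :
    ∃ (F : Type u) (_ : Field F) (_ : Algebra k F) (_ : Module.Finite k F) (ρ : A →ₐ[k] F),
      Function.Surjective ρ ∧ (∀ a, ρ a ≠ 0 → IsUnit a) ∧
        ∃ N : ℕ, (LinearMap.ker ρ.toLinearMap) ^ N = ⊥ := by
  have : Finite A := Module.finite_of_finite k
  have hmul : ∀ a b : A, IsUnit (a * b) → IsUnit a ∧ IsUnit b :=
    fun a b hab => ⟨isUnit_of_mul_isUnit_left hab, isUnit_of_mul_isUnit_right hab⟩
  obtain ⟨J, hJ⟩ : ∃ J : Ideal A, ∀ a : A, a ∈ J ↔ ¬ IsUnit a := ⟨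
    { carrier := {a | ¬ IsUnit a}
      zero_mem' := not_isUnit_zero
      add_mem' := fun {a b} ha hb hab => by
        obtain ⟨v, hv⟩ := hab
        have h1 : (↑v⁻¹ : A) * a + ↑v⁻¹ * b = 1 := by rw [← mul_add, ← hv, v.inv_mul]
        rcases hloc ((↑v⁻¹ : A) * a) with h | h
        · exact ha (hmul _ _ h).2
        · refine hb (hmul (↑v⁻¹ : A) b ?_).2
          rw [eq_sub_of_add_eq' h1]
          exact h.isUnit_one_sub
      smul_mem' := fun a b hb hab => hb (hmul a b hab).2 }, fun _ => Iff.rfl⟩
  have : J.IsTwoSided := ⟨fun {a} b ha => (hJ _).2 fun hab => (hJ a).1 ha (hmul a b hab).1⟩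
  have : Nontrivial (A ⧸ J) := ⟨⟨1, 0, fun h => by
    rw [← map_one (Ideal.Quotient.mk J), Ideal.Quotient.eq_zero_iff_mem, hJ] at h
    exact h isUnit_one⟩⟩
  have : NoZeroDivisors (A ⧸ J) := ⟨fun {x y} hxy => by
    obtain ⟨a, rfl⟩ := Ideal.Quotient.mk_surjective x
    obtain ⟨b, rfl⟩ := Ideal.Quotient.mk_surjective y
    rw [← map_mul, Ideal.Quotient.eq_zero_iff_mem, hJ] at hxy
    simp only [Ideal.Quotient.eq_zero_iff_mem, hJ]
    by_contra! h
    exact hxy (h.1.mul h.2)⟩
  have : IsDomain (A ⧸ J) := NoZeroDivisors.to_isDomain _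
  have : Finite (A ⧸ J) := Finite.of_surjective _ Ideal.Quotient.mk_surjective
  have hF : IsField (A ⧸ J) := Finite.isDomain_to_isField (A ⧸ J)
  let iF : Field (A ⧸ J) := hF.toField
  let f : A →+* A ⧸ J := Ideal.Quotient.mk J
  exact exists_residue_of_hom A f Ideal.Quotient.mk_surjective fun a =>
    (not_congr Ideal.Quotient.eq_zero_iff_mem).trans ((not_congr (hJ a)).trans not_not)

variable {A F : Type u} [Ring A] [Algebra k A] [CommRing F] [Algebra k F] (ρ : A →ₐ[k] F)
  (K : Type u) [Field K] [Algebra k K]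

/-- The kernel of the residue map after base change consists of nilpotents. -/
theorem isNilpotent_of_map_eq_zero {N : ℕ}
    (hN : (LinearMap.ker ρ.toLinearMap) ^ N = ⊥) (z : K ⊗[k] A)
    (hz : Algebra.TensorProduct.map (AlgHom.id K K) ρ z = 0) : IsNilpotent z := by
  let J := LinearMap.ker ρ.toLinearMap
  let S : ℕ → Submodule k (K ⊗[k] A) := fun n => Submodule.span k {t | ∃ b, ∃ a ∈ J ^ n, b ⊗ₜ a = t}
  have h1 : z ∈ S 1 := by
    have hex := Module.Flat.lTensor_exact (R := k) K
      (f := J.subtype) (g := ρ.toLinearMap) (LinearMap.exact_subtype_ker_map _)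
    obtain ⟨y, rfl⟩ := (hex z).1 hz
    induction y using TensorProduct.induction_on with
    | zero => rw [map_zero]; exact zero_mem _
    | add u v hu hv => rw [map_add]; exact add_mem (hu (by
        refine (hex _).2 ⟨u, rfl⟩)) (hv ((hex _).2 ⟨v, rfl⟩))
    | tmul b a => exact Submodule.subset_span ⟨b, a.1, by rw [pow_one]; exact a.2, rfl⟩
  have hn : ∀ n, z ^ (n + 1) ∈ S (n + 1) := by
    intro n
    induction n with
    | zero => simpa using h1
    | succ n ih =>
      have h2 := Submodule.mul_mem_mul ih h1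
      rw [Submodule.span_mul_span] at h2
      rw [pow_succ]
      refine Submodule.span_mono ?_ h2
      rintro _ ⟨_, ⟨b, a, ha, rfl⟩, _, ⟨c, a', ha', rfl⟩, rfl⟩
      refine ⟨b * c, a * a', ?_, (Algebra.TensorProduct.tmul_mul_tmul _ _ _ _).symm⟩
      rw [Submodule.pow_succ (n := n + 1)]
      exact Submodule.mul_mem_mul ha (by rwa [pow_one] at ha')
  refine ⟨N + 1, ?_⟩
  have h3 := hn N
  have h4 : S (N + 1) ≤ ⊥ := by
    refine Submodule.span_le.2 ?_
    rintro _ ⟨b, a, ha, rfl⟩
    rw [Submodule.pow_succ, show J ^ N = ⊥ from hN, Submodule.bot_mul] at ha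
    show b ⊗ₜ[k] a ∈ (⊥ : Submodule k (K ⊗[k] A))
    rw [show a = 0 from ha, tmul_zero]
    exact zero_mem _
  exact h4 h3

/-- `K ⊗ F` splits when `K` has the degree of `F` (finite fields). -/
theorem bijective_pi [Finite k] (F : Type u) [Field F] [Algebra k F] [Module.Finite k F] [Module.Finite k K]
    (hd : Module.finrank k K = Module.finrank k F) :
    Nat.card (F →ₐ[k] K) = Module.finrank k F ∧
      Function.Bijective (AlgHom.pi fun σ : F →ₐ[k] K =>
        Algebra.TensorProduct.lift (AlgHom.id K K) σ fun _ _ => Commute.all _ _) := by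
  have : Finite K := Module.finite_of_finite k
  have : Finite F := Module.finite_of_finite k
  obtain ⟨p, hp⟩ := CharP.exists k
  have : Fact p.Prime := ⟨CharP.char_is_prime k p⟩
  have : NeZero (Module.finrank k F) := ⟨Module.finrank_pos.ne'⟩
  let e : F ≃ₐ[k] K :=
    (FiniteField.algEquivExtension k p (Module.finrank k F) F rfl).trans
      (FiniteField.algEquivExtension k p (Module.finrank k F) K hd).symm
  have hcard : Nat.card (F →ₐ[k] K) = Module.finrank k F := by
    rw [Nat.card_congr (e.arrowCongr (AlgEquiv.refl : K ≃ₐ[k] K)), ← hd,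
      Nat.card_congr (algEquivEquivAlgHom k K).toEquiv.symm]
    exact IsGalois.card_aut_eq_finrank k K
  refine ⟨hcard, ?_⟩
  classical
  have : Fintype (F →ₐ[k] K) := Fintype.ofFinite _
  let Ψ := (AlgHom.pi fun σ : F →ₐ[k] K =>
        Algebra.TensorProduct.lift (AlgHom.id K K) σ fun _ _ => Commute.all _ _)
  have hrank : Module.finrank K (K ⊗[k] F) = Module.finrank K ((F →ₐ[k] K) → K) := by
    rw [Module.finrank_baseChange, Module.finrank_fintype_fun_eq_card, ← Nat.card_eq_fintype_card, hcard]
  have hs : Function.Surjective Ψ.toLinearMap := by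
    rw [← LinearMap.dualMap_injective_iff, injective_iff_map_eq_zero]
    intro φ hφ
    have hli := linearIndependent_toLinearMap k F K
    rw [Fintype.linearIndependent_iff] at hli
    have h0 : ∀ σ, φ (Pi.single σ 1) = 0 := by
      classical
      refine hli _ (LinearMap.ext fun x => ?_)
      have := congrArg (fun ψ : Module.Dual K (K ⊗[k] F) => ψ (1 ⊗ₜ x)) hφ
      simp only [LinearMap.dualMap_apply, LinearMap.zero_apply] at this
      rw [pi_eq_sum_univ (Ψ.toLinearMap (1 ⊗ₜ x)), map_sum] at this
      simp only [map_smul, smul_eq_mul] at this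
      simp only [LinearMap.sum_apply, LinearMap.smul_apply, LinearMap.zero_apply, smul_eq_mul]
      refine Eq.trans (Finset.sum_congr rfl fun σ _ => ?_) this
      rw [mul_comm]
      congr 1
      · simp [Ψ]
      · congr 1
        ext τ
        simp [Pi.single_apply, eq_comm]
    classical
    exact (Pi.basisFun K (F →ₐ[k] K)).ext fun σ => by simpa [Pi.basisFun_apply] using h0 σ
  exact ⟨(LinearMap.injective_iff_surjective_of_finrank_eq_finrank hrank).2 hs, hs⟩

/-- The residue degree of an algebra divides the dimension of each of its representations. -/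
theorem finrank_dvd {A F : Type u} [Ring A] [Algebra k A] [Field F] [Algebra k F] [Module.Finite k F]
    (ρ : A →ₐ[k] F) (hρ : Function.Surjective ρ) {N : ℕ} (hN : (LinearMap.ker ρ.toLinearMap) ^ N = ⊥) :
    ∀ (n : ℕ) (V : Type u) [AddCommGroup V] [Module k V] [FiniteDimensional k V] (_ : A →ₐ[k] Module.End k V),
      Module.finrank k V = n → Module.finrank k F ∣ Module.finrank k V := by
  intro n
  induction n using Nat.strong_induction_on with
  | _ n ih =>
    intro V _ _ _ φ hn
    rcases Nat.eq_zero_or_pos (Module.finrank k V) with h0 | hpos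
    · exact h0 ▸ dvd_zero _
    let J := LinearMap.ker ρ.toLinearMap
    let W : Submodule k V := Submodule.span k {w | ∃ a ∈ J, ∃ v, φ a v = w}
    have hJ : ∀ a ∈ J, ∀ v, φ a v ∈ W := fun a ha v => Submodule.subset_span ⟨a, ha, v, rfl⟩
    have hW : ∀ b, ∀ w ∈ W, φ b w ∈ W := fun b w hw => by
      refine Submodule.span_induction (p := fun w _ => φ b w ∈ W) ?_ ?_ ?_ ?_ hw
      · rintro _ ⟨a, ha, v, rfl⟩
        rw [← Module.End.mul_apply, ← map_mul]
        exact hJ _ (by simp [J, LinearMap.mem_ker, show ρ a = 0 from ha]) v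
      · rw [map_zero]; exact zero_mem _
      · intro x y _ _ hx hy; rw [map_add]; exact add_mem hx hy
      · intro c x _ hx; rw [map_smul]; exact W.smul_mem c hx
    have hne : W ≠ ⊤ := by
      intro htop
      have hall : ∀ m : ℕ, ∀ v : V, v ∈ Submodule.span k {w | ∃ a ∈ J ^ m, ∃ v, φ a v = w} := by
        intro m
        induction m with
        | zero =>
          exact fun v => Submodule.subset_span ⟨1, by rw [Submodule.pow_zero]; exact Submodule.mem_one.2 ⟨1, map_one _⟩,
            v, by rw [map_one]; rfl⟩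
        | succ m ihm =>
          intro v
          refine Submodule.span_le.2 ?_ (ihm v)
          rintro _ ⟨a, ha, v, rfl⟩
          refine (Submodule.span_induction (p := fun x _ => φ a x ∈ _) ?_ ?_ ?_ ?_ (htop.ge (Submodule.mem_top : v ∈ ⊤)))
          · rintro _ ⟨b, hb, u, rfl⟩
            refine Submodule.subset_span ⟨a * b, ?_, u, by rw [map_mul]; rfl⟩
            rw [Submodule.pow_succ]
            exact Submodule.mul_mem_mul ha hb
          · rw [map_zero]; exact zero_mem _
          · intro x y _ _ hx hy; rw [map_add]; exact add_mem hx hy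
          · intro c x _ hx; rw [map_smul]; exact Submodule.smul_mem _ c hx
      haveI := Module.nontrivial_of_finrank_pos hpos
      obtain ⟨v, hv⟩ := exists_ne (0 : V)
      refine hv ((Submodule.mem_bot k).1 (Submodule.span_le.2 ?_ (hall N v)))
      rintro _ ⟨a, ha, u, rfl⟩
      rw [hN, Submodule.mem_bot] at ha
      simp [ha]
    have hlt : Module.finrank k W < n := hn ▸ Submodule.finrank_lt hne
    let φW : A →ₐ[k] Module.End k W :=
      AlgHom.ofLinearMap
        { toFun := fun a => (φ a).restrict fun w hw => hW a w hw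
          map_add' := fun a b => by ext w; simp
          map_smul' := fun c a => by ext w; simp }
        (by ext w; simp) fun a b => by ext w; simp
    have h1 : Module.finrank k F ∣ Module.finrank k W := ih _ hlt W φW rfl
    let ψ : A →+* Module.End k (V ⧸ W) :=
      { toFun := fun a => W.mapQ W (φ a) fun w hw => hW a w hw
        map_one' := by ext v; simp
        map_mul' := fun a b => by ext v; simp
        map_zero' := by ext v; simp
        map_add' := fun a b => by ext v; simp }
    have hker : RingHom.ker ρ.toRingHom ≤ RingHom.ker ψ := fun a ha => by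
      ext v
      simpa [ψ] using hJ a ha v
    let χ : F →+* Module.End k (V ⧸ W) := (ρ.toRingHom.liftOfSurjective hρ) ⟨ψ, hker⟩
    have hχ : ∀ a, χ (ρ a) = ψ a := fun a =>
      RingHom.liftOfRightInverse_comp_apply _ _ _ _ a
    letI : Module F (V ⧸ W) := Module.compHom (V ⧸ W) χ
    haveI : IsScalarTower k F (V ⧸ W) := by
      refine IsScalarTower.of_algebraMap_smul fun c x => ?_
      obtain ⟨v, rfl⟩ := W.mkQ_surjective x
      show χ (algebraMap k F c) (W.mkQ v) = c • W.mkQ v
      rw [← ρ.commutes, hχ]
      simp [ψ, Module.algebraMap_end_apply]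
    rw [← W.finrank_quotient_add_finrank]
    exact dvd_add ⟨_, (Module.finrank_mul_finrank k F (V ⧸ W)).symm⟩ h1

end Groth.Agent.GenOneBC5
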