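import Groth.Agent.GenOneBC5.Bundle

/-!
# Splitting of a bundle over the residue field of its endomorphisms
-/

set_option autoImplicit false
set_option linter.style.haveILetI false
set_option linter.unusedSectionVars false
set_option backward.isDefEq.respectTransparency.types false

universe u

open CategoryTheory CategoryTheory.Limits AlgebraicGeometry Opposite TopologicalSpace TensorProduct
open Groth.Agent.Coherent Groth.Agent.PicLib Groth.Agent.CurveRR24

namespace Groth.Agent.GenOneBC5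

variable {k : Type u} [Field k] {X : Scheme.{u}} [X.Over (Spec (CommRingCat.of k))]
  [IsProper (X ↘ Spec (CommRingCat.of k))] [CompactSpace X] [QuasiSeparatedSpace X]
  (K : Type u) [Field K] [Algebra k K]
  {E : X.Modules} {F : Type u} [Field F] [Algebra k F] [Module.Finite k F] (ρ : End E →ₐ[k] F)

/-- If the residue field is the base field, nothing splits after base change. -/
theorem not_split_of_finrank_one (hE : FlatMod.IsFinLocFree E) {N : ℕ} (hN : (LinearMap.ker ρ.toLinearMap) ^ N = ⊥)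
    (h1 : Module.finrank k F = 1) {E₁ E₂ : (Curv2.bc k X K).Modules} (hE₁ : ¬ IsZero E₁) (hE₂ : ¬ IsZero E₂)
    (e : (Scheme.Modules.pullback (Curv2.bcFst k X K)).obj E ≅ E₁ ⊞ E₂) : False := by
  let q : End ((Scheme.Modules.pullback (Curv2.bcFst k X K)).obj E) := e.hom ≫ biprod.fst ≫ biprod.inl ≫ e.inv
  have hq : IsIdempotentElem q := by
    show (e.hom ≫ biprod.fst ≫ biprod.inl ≫ e.inv) ≫ (e.hom ≫ biprod.fst ≫ biprod.inl ≫ e.inv) =
      e.hom ≫ biprod.fst ≫ biprod.inl ≫ e.inv
    simp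
  let Θ := AlgEquiv.ofBijective (endBC (k := k) K E) (bijective_endBC K hE)
  let z := Θ.symm q
  have hz : IsIdempotentElem z := by
    show Θ.symm q * Θ.symm q = Θ.symm q
    rw [← map_mul, hq.eq]
  let P := Algebra.TensorProduct.map (AlgHom.id K K) ρ
  haveI : IsDomain (K ⊗[k] F) := by
    let eF : F ≃ₐ[k] k := (AlgEquiv.ofBijective (Algebra.ofId k F)
      ⟨(algebraMap k F).injective, fun x => by
        obtain ⟨c, hc⟩ := exists_smul_eq_of_finrank_eq_one h1 (one_ne_zero (α := F)) x
        exact ⟨c, (Algebra.algebraMap_eq_smul_one c).trans hc⟩⟩).symm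
    exact ((Algebra.TensorProduct.congr (AlgEquiv.refl : K ≃ₐ[K] K) eF).trans
      (Algebra.TensorProduct.rid k K K)).toRingEquiv.toMulEquiv.isDomain
  have key : ∀ w : K ⊗[k] End E, IsIdempotentElem w → P w = 0 → w = 0 := fun w hw h0 =>
    hw.eq_zero_of_isNilpotent (isNilpotent_of_map_eq_zero ρ K hN w h0)
  rcases IsIdempotentElem.iff_eq_zero_or_one.1 (hz.map P) with h0 | h0
  · have hq0 : q = 0 := by
      have := congrArg Θ (key z hz h0)
      rwa [map_zero, AlgEquiv.apply_symm_apply] at this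
    refine hE₁ ((IsZero.iff_id_eq_zero _).2 ?_)
    have h := congrArg (fun t => biprod.inl ≫ e.inv ≫ t ≫ e.hom ≫ biprod.fst) hq0
    simpa [q] using h
  · have hq1 : q = 1 := by
      have := congrArg Θ (key (1 - z) hz.one_sub (by rw [map_sub, map_one, h0, sub_self]))
      rw [map_sub, map_one, AlgEquiv.apply_symm_apply, map_zero, sub_eq_zero] at this
      exact this.symm
    refine hE₂ ((IsZero.iff_id_eq_zero _).2 ?_)
    have h := congrArg (fun t => biprod.inr ≫ e.inv ≫ t ≫ e.hom ≫ biprod.snd) hq1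
    simpa [q, End.one_def] using h.symm

/-- The splitting over a field of the degree of the residue field. -/
theorem exists_parts [Finite k] [Module.Finite k K] (hρ : Function.Surjective ρ) (hE : FlatMod.IsFinLocFree E)
    {N n : ℕ} (hN : (LinearMap.ker ρ.toLinearMap) ^ N = ⊥) (hK : Module.finrank k K = n)
    (hF : Module.finrank k F = n) :
    ∃ (M : Fin n → (Curv2.bc k X K).Modules)
      (i : ∀ a, M a ⟶ (Scheme.Modules.pullback (Curv2.bcFst k X K)).obj E)
      (p : ∀ a, (Scheme.Modules.pullback (Curv2.bcFst k X K)).obj E ⟶ M a)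
      (ψ : End ((Scheme.Modules.pullback (Curv2.bcFst k X K)).obj E) →+* (Fin n → K)),
      (∀ a, Mono (i a)) ∧ (∀ a, i a ≫ p a = 𝟙 _) ∧ (∀ a b, a ≠ b → i a ≫ p b = 0) ∧
      (∑ a, p a ≫ i a = 𝟙 _) ∧ (∀ a, ψ (p a ≫ i a) = Pi.single a 1) ∧ (∀ x, ψ x = 0 → IsNilpotent x) ∧
      (∀ f : End E, ρ f = 0 → ψ ((Scheme.Modules.pullback (Curv2.bcFst k X K)).map f) = 0) := by
  classical
  obtain ⟨hcard, hbij⟩ := bijective_pi (k := k) K F (hK.trans hF.symm)
  haveI : Finite (F →ₐ[k] K) := inferInstance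
  let ε : (F →ₐ[k] K) ≃ Fin n := Finite.equivFinOfCardEq (hcard.trans hF)
  let Θ := AlgEquiv.ofBijective (endBC (k := k) K E) (bijective_endBC K hE)
  let P := Algebra.TensorProduct.map (AlgHom.id K K) ρ
  let Φ : K ⊗[k] F ≃ₐ[K] (Fin n → K) :=
    (AlgEquiv.ofBijective _ hbij).trans (AlgEquiv.piCongrLeft' K (fun _ : F →ₐ[k] K => K) ε)
  let ψ : End ((Scheme.Modules.pullback (Curv2.bcFst k X K)).obj E) →+* (Fin n → K) :=
    (Φ.toAlgHom.comp (P.comp Θ.symm.toAlgHom)).toRingHom
  have hnil : ∀ x, ψ x = 0 → IsNilpotent x := fun x hx => by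
    have h1 : P (Θ.symm x) = 0 := Φ.injective (by rw [map_zero]; exact hx)
    have h2 := (isNilpotent_of_map_eq_zero ρ K hN _ h1).map Θ
    rwa [AlgEquiv.apply_symm_apply] at h2
  have hsur : Function.Surjective ψ :=
    Φ.surjective.comp ((Algebra.TensorProduct.map_surjective _ _ Function.surjective_id hρ).comp Θ.symm.surjective)
  obtain ⟨e, he, hψ⟩ := CompleteOrthogonalIdempotents.lift_of_isNilpotent_ker ψ (fun x hx => hnil x hx)
    (CompleteOrthogonalIdempotents.single fun _ : Fin n => K) fun a => RingHom.mem_range.2 (hsur _)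
  obtain ⟨i, p, hm, hip, hpi, hne, hsum⟩ := exists_split e he
  refine ⟨_, i, p, ψ, hm, hip, hne, hsum, fun a => by rw [hpi]; exact congr_fun hψ a, hnil, fun f hf => ?_⟩
  show Φ (P (Θ.symm _)) = 0
  rw [show Θ.symm ((Scheme.Modules.pullback (Curv2.bcFst k X K)).map f) = (1 : K) ⊗ₜ f from
    (Θ.symm_apply_eq).2 ((one_smul K _).symm.trans (endBC_tmul K E 1 f).symm)]
  simp [P, hf]

end Groth.Agent.GenOneBC5
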